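import Cfsg.Agent.Lib.FGB.TwoLargestBasic
import Cfsg.Agent.S4139

/-!
# Four class sizes `1, n, m, n * m` with `n`, `m` coprime: basic facts
-/

set_option autoImplicit false

namespace Cfsg.Agent.CoprimeFour

open FGB.TwoLargest
open scoped Pointwise

variable {G : Type*} [Group G] [Finite G]

local notation "C(" g ")" => Subgroup.centralizer ({g} : Set G)

/-- The hypothesis on the class sizes. -/
structure Hyp (G : Type*) [Group G] [Finite G] (n m : ℕ) : Prop where
  one_n : 1 < n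
  one_m : 1 < m
  cop : n.Coprime m
  mem : ∀ x : G, cls x = 1 ∨ cls x = n ∨ cls x = m ∨ cls x = n * m
  exN : ∃ x : G, cls x = n
  exM : ∃ x : G, cls x = m
  exNM : ∃ x : G, cls x = n * m

/-- `x` is an element of `r`-power order. -/
def Prim (r : ℕ) (x : G) : Prop := r.Prime ∧ ∃ k : ℕ, orderOf x = r ^ k

theorem mem_iff {g x : G} : x ∈ C(g) ↔ Commute x g := Subgroup.mem_centralizer_singleton_iff

theorem central_iff (x : G) : x ∈ Subgroup.center G ↔ cls x = 1 := by
  show _ ↔ (Subgroup.centralizer _).index = 1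
  rw [Subgroup.index_eq_one, FGB.centralizer_singleton_eq_top_iff]

theorem cls_conj (g x : G) : cls (g * x * g⁻¹) = cls x := by
  rw [← ncard_isConj, ← ncard_isConj]
  congr 1
  ext y
  exact ⟨fun h => (isConj_iff.2 ⟨g, rfl⟩).trans h, fun h => (isConj_iff.2 ⟨g, rfl⟩).symm.trans h⟩

theorem cls_dvd {x y : G} (h : C(x) ≤ C(y)) : cls y ∣ cls x := Subgroup.index_dvd_of_le h

theorem eq_of_index_le {A B : Subgroup G} (h : B ≤ A) (hi : B.index ≤ A.index) : B = A := by
  refine Subgroup.eq_of_le_of_card_ge h ?_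
  have h1 := A.card_mul_index
  have h2 := B.card_mul_index
  refine Nat.le_of_mul_le_mul_right ?_ (Nat.pos_of_ne_zero (Subgroup.index_ne_zero_of_finite (H := B)))
  calc Nat.card A * B.index ≤ Nat.card A * A.index := Nat.mul_le_mul_left _ hi
    _ = Nat.card B * B.index := by rw [h1, h2]

theorem centralizer_le_pow (x : G) (t : ℕ) : C(x) ≤ C(x ^ t) := fun g hg =>
  mem_iff.2 ((mem_iff.1 hg).pow_right t)

theorem Prim.ne_dvd {r : ℕ} {x : G} (h : Prim r x) {j : ℕ} (hj : ¬ r ∣ j) :
    (orderOf x).Coprime j := by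
  obtain ⟨hr, k, hk⟩ := h
  rw [hk]
  exact ((hr.coprime_iff_not_dvd).2 hj).pow_left k

theorem Prim.coprime {r s : ℕ} {x y : G} (hx : Prim r x) (hy : Prim s y) (h : r ≠ s) :
    (orderOf x).Coprime (orderOf y) := by
  obtain ⟨hr, i, hi⟩ := hx
  obtain ⟨hs, j, hj⟩ := hy
  rw [hi, hj]
  exact ((Nat.coprime_primes hr hs).2 h).pow i j

theorem Prim.conj {r : ℕ} {x : G} (h : Prim r x) (g : G) : Prim r (g * x * g⁻¹) := by
  obtain ⟨hr, k, hk⟩ := h
  exact ⟨hr, k, (orderOf_injective (MulAut.conj g).toMonoidHom (MulAut.conj g).injective x).trans hk⟩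

/-- The first prime-power step of an element. -/
theorem exists_step (x : G) (hx : orderOf x ≠ 1) :
    ∃ r : ℕ, r.Prime ∧ r ∣ orderOf x ∧ ∃ a b : G, ∃ s t : ℕ, a = x ^ s ∧ b = x ^ t ∧ x = a * b ∧
      orderOf a < orderOf x ∧ orderOf a ∣ orderOf x ∧ Prim r b := by
  obtain ⟨r, hr, hrx⟩ := Nat.exists_prime_and_dvd hx
  obtain ⟨a, b, s, t, ha, hb, hab, hc, e, he⟩ := exists_split x r
  have hdvd : orderOf a ∣ orderOf x := ha ▸ orderOf_pow_dvd s
  refine ⟨r, hr, hrx, a, b, s, t, ha, hb, hab, ?_, hdvd, hr, ?_⟩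
  · rcases (Nat.le_of_dvd (orderOf_pos x) hdvd).lt_or_eq with h | h
    · exact h
    · exfalso
      rw [h] at hc
      exact hr.ne_one (Nat.eq_one_of_dvd_coprimes hc hrx dvd_rfl)
  · obtain ⟨k, -, hk⟩ := (Nat.dvd_prime_pow hr).1 he
    exact ⟨k, hk⟩

/-- A non-central element has a non-central power of prime-power order. -/
theorem exists_primary (x : G) (hx : x ∉ Subgroup.center G) :
    ∃ r d : ℕ, r ∣ orderOf x ∧ Prim r (x ^ d) ∧ x ^ d ∉ Subgroup.center G := by
  induction ho : orderOf x using Nat.strong_induction_on generalizing x with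
  | _ o ih =>
    subst ho
    obtain ⟨r, -, hrx, a, b, s, t, ha, hb, hab, hlt, hdvd, hP⟩ := exists_step x (fun h => hx (by
      rw [orderOf_eq_one_iff.1 h]; exact one_mem _))
    by_cases h : b ∈ Subgroup.center G
    · obtain ⟨r', d, hd1, hd2, hd3⟩ := ih _ hlt a (fun h' => hx (hab ▸ mul_mem h' h)) rfl
      refine ⟨r', s * d, hd1.trans hdvd, ?_⟩
      rw [pow_mul, ← ha]
      exact ⟨hd2, hd3⟩
    · exact ⟨r, t, hrx, hb ▸ hP, hb ▸ h⟩

theorem centralizer_mul {a b : G} (hab : Commute a b) (hco : (orderOf a).Coprime (orderOf b)) :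
    C(a * b) = C(a) ⊓ C(b) := FGB.centralizer_mul_of_coprime hab hco

theorem rel_mul {a y : G} (hab : Commute a y) (hco : (orderOf a).Coprime (orderOf y)) :
    C(y).relIndex C(a) * cls a = cls (a * y) := by
  show _ = (Subgroup.centralizer _).index
  rw [centralizer_mul hab hco, ← Subgroup.relIndex_mul_index (inf_le_left : C(a) ⊓ C(y) ≤ C(a)),
    Subgroup.inf_relIndex_left]

theorem index_centralizer_sub {C : Subgroup G} (y : C) :
    (Subgroup.centralizer ({y} : Set C)).index = C((y : G)).relIndex C := by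
  rw [Subgroup.relIndex]
  congr 1
  ext z
  rw [Subgroup.mem_subgroupOf, Subgroup.mem_centralizer_singleton_iff,
    Subgroup.mem_centralizer_singleton_iff]
  exact Subtype.ext_iff

theorem exists_sylow_commute {p : ℕ} [Fact p.Prime] {x : G} (hx : ¬ p ∣ cls x) :
    ∃ Q : Sylow p G, ∀ u ∈ Q, Commute u x := S4139.exists_sylow_centralized hx

/-- An element of prime-power order lies in a Sylow subgroup. -/
theorem exists_sylow_mem {p : ℕ} [Fact p.Prime] {x : G} (hx : Prim p x) :
    ∃ P : Sylow p G, x ∈ (P : Subgroup G) := by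
  obtain ⟨-, k, hk⟩ := hx
  obtain ⟨P, hP⟩ := (IsPGroup.of_card (n := k) (by rw [Nat.card_zpowers, hk]) :
    IsPGroup p (Subgroup.zpowers x)).exists_le_sylow
  exact ⟨P, hP (Subgroup.mem_zpowers x)⟩

/-- A conjugate centralised by a given Sylow subgroup. -/
theorem exists_conj_centralized {p : ℕ} [Fact p.Prime] {x : G} (hx : ¬ p ∣ cls x) (P : Sylow p G) :
    ∃ g : G, ∀ u ∈ (P : Subgroup G), Commute u (g * x * g⁻¹) := by
  obtain ⟨Q, hQ⟩ := exists_sylow_commute hx
  obtain ⟨g, rfl⟩ := MulAction.exists_smul_eq G Q P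
  refine ⟨g, ?_⟩
  rintro _ ⟨w, hw, rfl⟩
  exact (hQ w hw).map (MulAut.conj g).toMonoidHom

/-- If no class size is divisible by `p` then Sylow `p`-subgroups are central. -/
theorem sylow_central {p : ℕ} [Fact p.Prime] (h : ∀ x : G, ¬ p ∣ cls x) (P : Sylow p G) :
    Subgroup.centralizer ((P : Subgroup G) : Set G) = ⊤ := by
  refine FGB.eq_top_of_conj_cover fun x => ?_
  obtain ⟨g, hg⟩ := exists_conj_centralized (h x) P
  exact ⟨g, Subgroup.mem_centralizer_iff.2 fun u hu => hg u hu⟩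

theorem mem_center_of_free {p : ℕ} [Fact p.Prime] (h : ∀ x : G, ¬ p ∣ cls x) {d : G} (hd : Prim p d) :
    d ∈ Subgroup.center G := by
  obtain ⟨P, hP⟩ := exists_sylow_mem hd
  refine Subgroup.mem_center_iff.2 fun g => ?_
  have hg : g ∈ Subgroup.centralizer ((P : Subgroup G) : Set G) := by
    rw [sylow_central h P]; exact Subgroup.mem_top g
  exact (Subgroup.mem_centralizer_iff.1 hg d hP).symm

namespace Hyp

variable {n m : ℕ} (H : Hyp G n m)

include H

theorem swap : Hyp G m n where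
  one_n := H.one_m
  one_m := H.one_n
  cop := H.cop.symm
  mem x := by rcases H.mem x with h | h | h | h <;> simp [h, mul_comm]
  exN := H.exM
  exM := H.exN
  exNM := by obtain ⟨x, hx⟩ := H.exNM; exact ⟨x, hx.trans (mul_comm n m)⟩

theorem not_n_dvd_m : ¬ n ∣ m := fun h =>
  (H.one_n.ne') (Nat.eq_one_of_dvd_coprimes H.cop dvd_rfl h)

theorem prime_not_m {r : ℕ} (hr : r.Prime) (h : r ∣ n) : ¬ r ∣ m := fun h' =>
  hr.ne_one (Nat.eq_one_of_dvd_coprimes H.cop h h')

theorem dvd_nm (x : G) : cls x ∣ n * m := by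
  rcases H.mem x with h | h | h | h <;> rw [h] <;> simp

theorem of_dvd_n {x : G} (h : cls x ∣ n) : cls x = 1 ∨ cls x = n := by
  rcases H.mem x with e | e | e | e
  · exact Or.inl e
  · exact Or.inr e
  · exact absurd (e ▸ h) H.swap.not_n_dvd_m
  · exact absurd ((dvd_mul_left m n).trans (e ▸ h)) H.swap.not_n_dvd_m

theorem of_not_dvd {p : ℕ} (hpn : p ∣ n) {x : G} (h : ¬ p ∣ cls x) : cls x = 1 ∨ cls x = m := by
  rcases H.mem x with e | e | e | e
  · exact Or.inl e
  · exact absurd (e ▸ hpn) h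
  · exact Or.inr e
  · exact absurd (e ▸ hpn.mul_right m) h

/-- Inside the centraliser of an element with class size `n`. -/
theorem rel_cases {a y : G} (ha : cls a = n) (hab : Commute a y)
    (hco : (orderOf a).Coprime (orderOf y)) : C(y).relIndex C(a) = 1 ∨ C(y).relIndex C(a) = m := by
  have h := rel_mul hab hco
  rw [ha] at h
  have hn : 0 < n := by have := H.one_n; omega
  rcases H.mem (a * y) with e | e | e | e <;> rw [e] at h
  · exact absurd (Dvd.intro_left _ h) (fun h1 => H.one_n.ne' (Nat.dvd_one.1 h1))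
  · exact Or.inl (Nat.eq_of_mul_eq_mul_right hn (h.trans (one_mul n).symm))
  · exact absurd (Dvd.intro_left _ h) H.not_n_dvd_m
  · exact Or.inr (Nat.eq_of_mul_eq_mul_right hn (h.trans (mul_comm n m)))

theorem cls_n_m {a b : G} (ha : cls a = n) (hb : cls b = m) : (C(a) ⊓ C(b)).index = n * m := by
  have h : (cls a).Coprime (cls b) := by rw [ha, hb]; exact H.cop
  rw [inf_index h]
  show cls a * cls b = _
  rw [ha, hb]

theorem rel_eq_m {a b : G} (ha : cls a = n) (hb : cls b = m) : C(b).relIndex C(a) = m := by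
  have h := H.cls_n_m ha hb
  rw [← Subgroup.relIndex_mul_index (inf_le_left : C(a) ⊓ C(b) ≤ C(a)), Subgroup.inf_relIndex_left] at h
  change _ * cls a = _ at h
  rw [ha] at h
  exact Nat.eq_of_mul_eq_mul_right (by have := H.one_n; omega) (h.trans (mul_comm n m))

theorem exists_prim : ∃ r : ℕ, ∃ a : G, Prim r a ∧ cls a = n := by
  obtain ⟨x, hx⟩ := H.exN
  obtain ⟨r, d, -, hP, hc⟩ := exists_primary x (fun h => H.one_n.ne' (hx.symm.trans ((central_iff x).1 h)))
  rcases H.of_dvd_n (hx ▸ cls_dvd (centralizer_le_pow x d)) with e | e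
  · exact absurd ((central_iff _).2 e) hc
  · exact ⟨r, _, hP, e⟩

end Hyp

end Cfsg.Agent.CoprimeFour
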