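import Cfsg.Agent.Lib.CoprimeFour.Basic
import Cfsg.Agent.S4035
import Cfsg.Agent.S4134
import Cfsg.Agent.S4127
import Cfsg.Agent.Lib.FGB.PRegularClasses

/-!
# Four class sizes: an element of class size `n` and order prime to `m` forces `m` to be a prime power
-/

set_option autoImplicit false

namespace Cfsg.Agent.CoprimeFour

open FGB.TwoLargest

variable {G : Type*} [Group G] [Finite G]

local notation "C(" g ")" => Subgroup.centralizer ({g} : Set G)

theorem rel_eq_of_sup {N K : Subgroup G} [N.Normal] (h : N ⊔ K = ⊤) : K.relIndex N = K.index := by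
  have h1 : N.relIndex K = N.index := by
    rw [← Subgroup.relIndex_top_right N, ← h, sup_comm, Subgroup.relIndex_sup_right]
  have ha := Subgroup.relIndex_mul_index (inf_le_left : N ⊓ K ≤ N)
  have hb := Subgroup.relIndex_mul_index (inf_le_right : N ⊓ K ≤ K)
  rw [Subgroup.inf_relIndex_left] at ha
  rw [Subgroup.inf_relIndex_right, h1] at hb
  refine Nat.eq_of_mul_eq_mul_right (Nat.pos_of_ne_zero (Subgroup.index_ne_zero_of_finite (H := N))) ?_
  rw [ha, ← hb, mul_comm]

/-- An element whose order is prime to the index of a normal subgroup lies in it. -/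
theorem mem_of_coprime_index {N : Subgroup G} [N.Normal] {x : G}
    (h : (orderOf x).Coprime N.index) : x ∈ N := by
  obtain ⟨e, he⟩ := exists_pow_eq_self_of_coprime (x := x) h.symm
  rw [← he]
  exact pow_mem (Subgroup.pow_index_mem N x) e

/-- The key step. -/
theorem prime_pow {n m : ℕ} (H : Hyp G n m) {r : ℕ} {a : G} (hr : Prim r a) (ha : cls a = n)
    (hrm : ¬ r ∣ m) :
    ∃ q β : ℕ, q.Prime ∧ m = q ^ β ∧ ∃ b : G, Prim q b ∧ cls b = m := by
  haveI := Fact.mk hr.1
  obtain ⟨s, b₀, hs, hb₀⟩ := H.swap.exists_prim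
  -- a conjugate of `b₀` commutes with `a`
  obtain ⟨P, hP⟩ := exists_sylow_mem hr
  obtain ⟨g, hg⟩ := exists_conj_centralized (p := r) (x := b₀) (by rw [hb₀]; exact hrm) P
  set b := g * b₀ * g⁻¹ with hbdef
  have hb : cls b = m := (cls_conj g b₀).trans hb₀
  have hsb : Prim s b := hs.conj g
  have hab : Commute a b := hg a hP
  set C := C(a) with hC
  have hbC : b ∈ C := mem_iff.2 hab.symm
  -- class sizes in `C`
  have hloc : ∀ y : C, (orderOf y).Coprime r →
      C((y : G)).relIndex C = 1 ∨ C((y : G)).relIndex C = m := fun y hy => by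
    refine H.rel_cases ha (mem_iff.1 y.2).symm ?_
    obtain ⟨-, k, hk⟩ := hr
    rw [hk, Subgroup.orderOf_coe]
    exact Nat.Coprime.pow_left k hy.symm
  obtain ⟨R₀⟩ : Nonempty (Sylow r C) := inferInstance
  obtain ⟨hRn, H0, hH0n, hH0p, hinf, hsup⟩ := S4035.result (G := C) (p := r) (fun y hy hd => by
    rw [FGB.ncard_carrier_eq_index_centralizer, index_centralizer_sub] at hd
    rcases hloc y hy with e | e <;> rw [e] at hd
    · exact hr.1.not_dvd_one hd
    · exact hrm hd) R₀
  haveI := hH0n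
  haveI := hRn
  have hcomm : ∀ u ∈ (R₀ : Subgroup C), ∀ v ∈ H0, Commute u v := fun u hu v hv =>
    Subgroup.commute_of_normal_of_disjoint _ _ hRn hH0n (disjoint_iff.mpr hinf) u v hu hv
  obtain ⟨j, hj⟩ : ∃ j : ℕ, H0.index = r ^ j := by
    obtain ⟨i, hi⟩ := IsPGroup.iff_card.1 R₀.isPGroup'
    have h1 : H0.index ∣ Nat.card (R₀ : Subgroup C) := by
      rw [← Subgroup.relIndex_top_right, ← hsup, Subgroup.relIndex_sup_right]
      exact Subgroup.relIndex_dvd_card _ _
    obtain ⟨j, -, hj⟩ := (Nat.dvd_prime_pow hr.1).1 (hi ▸ h1)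
    exact ⟨j, hj⟩
  have hrel : (Subgroup.centralizer ({⟨b, hbC⟩} : Set C)).index = m := by
    rw [index_centralizer_sub]; exact H.rel_eq_m ha hb
  -- `b` is not an `r`-element
  have hsr : s ≠ r := by
    rintro rfl
    have hbR : (⟨b, hbC⟩ : C) ∈ (R₀ : Subgroup C) := by
      obtain ⟨-, k, hk⟩ := hsb
      have hK : IsPGroup s ((R₀ : Subgroup C) ⊔ Subgroup.zpowers (⟨b, hbC⟩ : C) : Subgroup C) :=
        IsPGroup.to_sup_of_normal_left R₀.isPGroup'
          (IsPGroup.of_card (n := k) (by rw [Nat.card_zpowers, Subgroup.orderOf_mk, hk]))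
      exact (R₀.3 hK le_sup_left).le (Subgroup.mem_sup_right (Subgroup.mem_zpowers _))
    have hle : H0 ≤ Subgroup.centralizer ({⟨b, hbC⟩} : Set C) := fun v hv =>
      Subgroup.mem_centralizer_singleton_iff.2 (hcomm _ hbR v hv).symm
    have := Subgroup.index_dvd_of_le hle
    rw [hrel, hj] at this
    exact H.one_m.ne' (Nat.eq_one_of_dvd_coprimes
      (Nat.Coprime.pow_right j ((Nat.coprime_comm.1 ((hr.1.coprime_iff_not_dvd).2 hrm)))) dvd_rfl this)
  have hbH : (⟨b, hbC⟩ : C) ∈ H0 := by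
    refine mem_of_coprime_index ?_
    obtain ⟨hs', k, hk⟩ := hsb
    rw [Subgroup.orderOf_mk, hk, hj]
    exact ((Nat.coprime_primes hs' hr.1).2 hsr).pow k j
  -- class sizes in `H0`
  have hH : ∀ y : H0, (Subgroup.centralizer ({y} : Set H0)).index =
      (Subgroup.centralizer ({(y : C)} : Set C)).index := by
    intro y
    rw [index_centralizer_sub (G := C) (C := H0) y]
    refine rel_eq_of_sup (top_unique ?_)
    rw [← hsup, sup_comm]
    refine sup_le_sup_left (fun u hu => ?_) _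
    exact Subgroup.mem_centralizer_singleton_iff.2 (hcomm u hu y y.2)
  have hcop : ∀ y : H0, (orderOf (y : C)).Coprime r := fun y => by
    rw [Subgroup.orderOf_coe]
    exact ((hr.1.coprime_iff_not_dvd).2 (fun h => hH0p (h.trans (orderOf_dvd_natCard y)))).symm
  obtain ⟨q, hq, β, hβ, hstr⟩ := S4134.result (G := H0) m H.one_m (fun y => by
      rw [hH, index_centralizer_sub]; exact hloc _ (hcop y))
    ⟨⟨_, hbH⟩, by rw [hH]; exact hrel⟩
  refine ⟨q, β, hq.out, hβ, b, ?_, hb⟩
  suffices hsq : s = q from hsq ▸ hsb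
  by_contra hsq
  haveI := hq
  obtain ⟨Q⟩ : Nonempty (Sylow q H0) := inferInstance
  obtain ⟨-, ⟨N, hNn, hcompl, hNab, hNQ⟩, -⟩ := hstr Q
  haveI := hNn
  obtain ⟨i, hi⟩ := IsPGroup.iff_card.1 Q.isPGroup'
  have hbN : (⟨_, hbH⟩ : H0) ∈ N := by
    refine mem_of_coprime_index ?_
    obtain ⟨hs', k, hk⟩ := hsb
    rw [Subgroup.orderOf_mk, Subgroup.orderOf_mk, hk, hcompl.symm.index_eq_card, hi]
    exact ((Nat.coprime_primes hs' hq.out).2 hsq).pow k i
  have htop : Subgroup.centralizer ({(⟨_, hbH⟩ : H0)} : Set H0) = ⊤ := by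
    refine top_unique ?_
    rw [← hcompl.sup_eq_top]
    refine sup_le (fun u hu => ?_) (fun u hu => ?_)
    · exact Subgroup.mem_centralizer_singleton_iff.2
        (congrArg Subtype.val (hNab.is_comm.comm ⟨u, hu⟩ ⟨_, hbN⟩))
    · exact Subgroup.mem_centralizer_singleton_iff.2 (hNQ _ hbN u hu).symm
  have h1 := hH ⟨_, hbH⟩
  rw [htop, Subgroup.index_top, hrel] at h1
  exact H.one_m.ne' h1.symm

/-- A prime-power class size attained by a `q`-element gives a normal `q`-complement. -/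
theorem normal_complement {n m : ℕ} (H : Hyp G n m) {q β : ℕ} (hq : q.Prime) (hm : m = q ^ β)
    {b : G} (hb : Prim q b) (hbm : cls b = m) : Cfsg.HasNormalPComplement q G := by
  haveI := Fact.mk hq
  refine S4127.result q β (fun y hy => ?_) ⟨b, hb.2, hbm.trans hm⟩
  have h := hy.trans (H.dvd_nm y)
  rw [hm, pow_succ, mul_comm n] at h
  have hqn : q ∣ n := Nat.dvd_of_mul_dvd_mul_left (pow_pos hq.pos β) h
  have hβ : β ≠ 0 := fun e => H.one_m.ne' (by rw [hm, e, pow_zero])
  exact H.prime_not_m hq hqn (hm ▸ dvd_pow_self q hβ)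

end Cfsg.Agent.CoprimeFour
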