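import Cfsg.Agent.Lib.CoprimeFour.Basic

/-!
# Four class sizes: every element of prime-power order and class size `n` has order dividing into `m`
is impossible
-/

set_option autoImplicit false

namespace Cfsg.Agent.CoprimeFour

open FGB.TwoLargest
open scoped Pointwise

variable {G : Type*} [Group G] [Finite G] {n m : ℕ}

local notation "C(" g ")" => Subgroup.centralizer ({g} : Set G)

/-- The remaining case. -/
structure Mixed (n m : ℕ) (G : Type*) [Group G] [Finite G] : Prop where
  hyp : Hyp G n m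
  onN : ∀ (r : ℕ) (a : G), Prim r a → cls a = n → r ∣ m
  onM : ∀ (r : ℕ) (a : G), Prim r a → cls a = m → r ∣ n

theorem Mixed.swap (H : Mixed n m G) : Mixed m n G := ⟨H.hyp.swap, H.onM, H.onN⟩

/-- The stabiliser of a class under left translation. -/
theorem stab_data {a b : G} (hcop : (cls a).Coprime (cls b)) (hab : cls (a * b) ≤ cls b) :
    ∃ M : Subgroup G, M.Normal ∧ Nat.card M ∣ cls b ∧ (∀ j : G, a⁻¹ * (j * a * j⁻¹) ∈ M) ∧
      ∀ u ∈ M, ∃ i : G, u * b = i * b * i⁻¹ := by
  set S : Set G := {x | IsConj b x}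
  set T : Set G := {x | IsConj (a * b) x}
  have hsub : ∀ j : G, (j * a * j⁻¹) • S ⊆ T := by
    intro j
    rintro _ ⟨b', hb', rfl⟩
    obtain ⟨i, rfl⟩ := isConj_iff.1 hb'
    obtain ⟨s, hs, t, ht, hst⟩ := exists_mul hcop (j⁻¹ * i)
    rw [Subgroup.mem_centralizer_singleton_iff] at hs ht
    refine isConj_iff.2 ⟨j * s, ?_⟩
    have h1 : j * s * a * (j * s)⁻¹ = j * a * j⁻¹ := by
      rw [mul_assoc j s a, hs]; group
    have h2 : j * s * b * (j * s)⁻¹ = i * b * i⁻¹ := by
      rw [show j * s = i * t⁻¹ from by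
        rw [show i = j * (j⁻¹ * i) by group, hst]; group]
      rw [mul_inv_rev, inv_inv, ← mul_assoc (i * t⁻¹ * b), mul_assoc i t⁻¹ b, mul_assoc i (t⁻¹ * b) t,
        mul_assoc t⁻¹ b t, ← ht, inv_mul_cancel_left]
    show j * s * (a * b) * (j * s)⁻¹ = (j * a * j⁻¹) • (i * b * i⁻¹)
    rw [smul_eq_mul, ← h1, ← h2]; group
  have hST : ∀ j : G, (j * a * j⁻¹) • S = T := fun j =>
    Set.eq_of_subset_of_ncard_le (hsub j) (by
      rw [Set.ncard_smul_set, ncard_isConj, ncard_isConj]; exact hab) (Set.toFinite _)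
  let M : Subgroup G := MulAction.stabilizer G S
  have hSconj : ∀ (j : G) (x : G), x ∈ S → j * x * j⁻¹ ∈ S := fun j x hx =>
    hx.trans (isConj_iff.2 ⟨j, rfl⟩)
  have hMn : M.Normal := by
    refine ⟨fun c hc j => ?_⟩
    have hc' : c • S = S := hc
    show (j * c * j⁻¹) • S = S
    refine Set.eq_of_subset_of_ncard_le ?_ (by rw [Set.ncard_smul_set]) (Set.toFinite _)
    rintro _ ⟨x, hx, rfl⟩
    have hx' : j⁻¹ * x * j ∈ S := by simpa using hSconj j⁻¹ x hx
    have := hSconj j _ (hc' ▸ Set.smul_mem_smul_set (a := c) hx')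
    simpa [smul_eq_mul, mul_assoc] using this
  have hmu : ∀ j : G, a⁻¹ * (j * a * j⁻¹) ∈ M := by
    intro j
    show (a⁻¹ * (j * a * j⁻¹)) • S = S
    have h1 := hST 1
    rw [one_mul, inv_one, mul_one] at h1
    rw [mul_smul, hST j, ← h1, inv_smul_smul]
  refine ⟨M, hMn, ?_, hmu, ?_⟩
  · let act : MulAction M S :=
      { smul := fun c x => ⟨(c : G) * x, by
          have hc : (c : G) • S = S := c.2
          have h1 := Set.smul_mem_smul_set (a := (c : G)) x.2
          rw [hc] at h1
          exact h1⟩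
        one_smul := fun x => Subtype.ext (one_mul _)
        mul_smul := fun c d x => Subtype.ext (mul_assoc _ _ _) }
    have hfree : ∀ x : S, MulAction.stabilizer M x = ⊥ := by
      intro x
      refine (Subgroup.eq_bot_iff_forall _).2 fun c hc => Subtype.ext ?_
      have h1 : (c : G) * x = x := congrArg Subtype.val (MulAction.mem_stabilizer_iff.1 hc)
      exact mul_eq_right.1 h1
    have := Nat.card_congr (MulAction.selfEquivOrbitsQuotientProd hfree)
    rw [Nat.card_prod, Nat.card_coe_set_eq, ncard_isConj] at this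
    exact ⟨_, this.trans (mul_comm _ _)⟩
  · intro u hu
    have hu' : u • S = S := hu
    have h1 := Set.smul_mem_smul_set (a := u) (show b ∈ S from IsConj.refl b)
    rw [hu'] at h1
    obtain ⟨i, hi⟩ := isConj_iff.1 h1
    exact ⟨i, hi.symm⟩

theorem fact_index {A : Subgroup G} (p : ℕ) :
    (Nat.card A).factorization p + A.index.factorization p = (Nat.card G).factorization p := by
  rw [← A.card_mul_index, Nat.factorization_mul Nat.card_pos.ne' Subgroup.index_ne_zero_of_finite,
    Finsupp.add_apply]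

theorem fact_nm {a b p : ℕ} (ha : a ≠ 0) (hb : b ≠ 0) (h : ¬ p ∣ b) :
    (a * b).factorization p = a.factorization p := by
  rw [Nat.factorization_mul ha hb, Finsupp.add_apply, Nat.factorization_eq_zero_of_not_dvd h, add_zero]

/-- A `p`-element in a centraliser with small `p`-part is central. -/
theorem central_of_small {p : ℕ} [Fact p.Prime] {x y : G}
    (hy : ∀ u : G, Prim p u → u ∈ C(y) → u ∈ Subgroup.center G)
    (he : (cls x).factorization p = (cls y).factorization p)
    {d : G} (hd : Prim p d) (hdx : d ∈ C(x)) : d ∈ Subgroup.center G := by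
  obtain ⟨-, k, hk⟩ := hd
  obtain ⟨Py⟩ : Nonempty (Sylow p C(y)) := inferInstance
  obtain ⟨PZ⟩ : Nonempty (Sylow p (Subgroup.center G)) := inferInstance
  have hle : (Py : Subgroup C(y)).map (Subgroup.subtype _) ≤ Subgroup.center G := by
    rintro _ ⟨u, hu, rfl⟩
    refine hy _ ⟨Fact.out, ?_⟩ u.2
    obtain ⟨i, hi⟩ := IsPGroup.iff_orderOf.1 Py.isPGroup' ⟨u, hu⟩
    rw [Subgroup.orderOf_mk] at hi
    exact ⟨i, (Subgroup.orderOf_coe u).trans hi⟩
  set Z := (PZ : Subgroup (Subgroup.center G)).map (Subgroup.subtype _) with hZdef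
  have hcZ : Nat.card Z = p ^ (Nat.card (Subgroup.center G)).factorization p := by
    rw [hZdef, Subgroup.card_map_of_injective (Subgroup.subtype_injective _)]
    exact PZ.card_eq_multiplicity
  have h1 : p ^ (Nat.card C(y)).factorization p ≤ Nat.card Z := by
    rw [hcZ, ← Py.card_eq_multiplicity, ← Subgroup.card_map_of_injective
      (Subgroup.subtype_injective C(y))]
    exact FGB.card_le_pow_factorization (Py.isPGroup'.map _) hle
  have hxy : (Nat.card C(x)).factorization p = (Nat.card C(y)).factorization p := by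
    have e1 := fact_index (A := C(x)) p
    have e2 := fact_index (A := C(y)) p
    change _ + (cls x).factorization p = _ at e1
    change _ + (cls y).factorization p = _ at e2
    omega
  have hZc : Z ≤ Subgroup.center G := Subgroup.map_subtype_le _
  haveI hZn : Z.Normal := ⟨fun u hu g => by
    rw [Subgroup.mem_center_iff.1 (hZc hu) g, mul_inv_cancel_right]; exact hu⟩
  have hK : IsPGroup p (Z ⊔ Subgroup.zpowers d : Subgroup G) :=
    IsPGroup.to_sup_of_normal_left (PZ.isPGroup'.map _)
      (IsPGroup.of_card (n := k) (by rw [Nat.card_zpowers, hk]))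
  have hKC : Z ⊔ Subgroup.zpowers d ≤ C(x) :=
    sup_le (hZc.trans (Subgroup.center_le_centralizer _)) (Subgroup.zpowers_le.2 hdx)
  have h2 := FGB.card_le_pow_factorization hK hKC
  rw [hxy] at h2
  have h3 : Z = Z ⊔ Subgroup.zpowers d := Subgroup.eq_of_le_of_card_ge le_sup_left (h2.trans h1)
  exact hZc (h3 ▸ Subgroup.mem_sup_right (Subgroup.mem_zpowers d))

namespace Mixed

variable (H : Mixed n m G)

include H

theorem n_ne : n ≠ 0 := by have := H.hyp.one_n; omega

theorem m_ne : m ≠ 0 := by have := H.hyp.one_m; omega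

/-- With trivial `s`-part in `C(y)`, the elements of order dividing into `m` in `C(z)` are central. -/
theorem central_in_other {s : ℕ} {y z : G} (hy : cls y = n) (hz : Prim s z) (hzm : cls z = m)
    (hsmall : ∀ u : G, Prim s u → u ∈ C(y) → u ∈ Subgroup.center G)
    {q : ℕ} {v : G} (hv : Prim q v) (hq : q ∣ m) (hvz : v ∈ C(z)) : v ∈ Subgroup.center G := by
  haveI := Fact.mk hz.1
  have hsn : s ∣ n := H.onM s z hz hzm
  have hsq : q ≠ s := fun e => H.hyp.prime_not_m hz.1 hsn (e ▸ hq)
  have hc : Commute v z := mem_iff.1 hvz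
  have hX := centralizer_mul hc (hv.coprime hz hsq)
  by_contra hvc
  by_cases hd : s ∣ cls (v * z)
  · have hsm : ¬ s ∣ m := H.hyp.prime_not_m hz.1 hsn
    have he : (cls (v * z)).factorization s = (cls y).factorization s := by
      rw [hy]
      rcases H.hyp.mem (v * z) with e | e | e | e
      · rw [e] at hd; exact absurd hd hz.1.not_dvd_one
      · rw [e]
      · rw [e] at hd; exact absurd hd hsm
      · rw [e, fact_nm H.n_ne H.m_ne hsm]
    have hzc : z ∈ C(v * z) := hX ▸ ⟨mem_iff.2 hc.symm, FGB.mem_centralizer_singleton_self z⟩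
    exact H.hyp.one_m.ne' (hzm.symm.trans ((central_iff z).1 (central_of_small hsmall he hz hzc)))
  · have hle : C(v * z) ≤ C(z) := hX ▸ inf_le_right
    have heq : C(v * z) = C(z) := by
      refine eq_of_index_le hle ?_
      show cls (v * z) ≤ cls z
      rcases H.hyp.of_not_dvd hsn hd with e | e <;> rw [e, hzm]
      exact H.hyp.one_m.le
    have hvm : cls v ∣ m := hzm ▸ cls_dvd (heq ▸ hX ▸ inf_le_left)
    rcases H.hyp.swap.of_dvd_n hvm with e | e
    · exact hvc ((central_iff v).2 e)
    · exact H.hyp.prime_not_m hv.1 (H.onM q v hv e) hq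

/-- `C(y)` cannot have only central `s`-elements. -/
theorem not_small {r s : ℕ} {y z : G} (hy : Prim r y) (hyn : cls y = n) (hz : Prim s z)
    (hzm : cls z = m) (hsmall : ∀ u : G, Prim s u → u ∈ C(y) → u ∈ Subgroup.center G) : False := by
  have hrm : r ∣ m := H.onN r y hy hyn
  have hL : ∀ (q : ℕ) (v : G), Prim q v → q ∣ m → v ∈ C(z) → v ∈ Subgroup.center G :=
    fun q v hv hq hvz => H.central_in_other hyn hz hzm hsmall hv hq hvz
  have hL' : ∀ (p : ℕ) (w : G), Prim p w → p ∣ n → w ∈ C(y) → w ∈ Subgroup.center G :=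
    fun p w hw hp hwy => H.swap.central_in_other hzm hy hyn (fun u hu hu' => hL r u hu hrm hu') hw hp hwy
  obtain ⟨x, hx⟩ := H.hyp.exNM
  have hxc : x ∉ Subgroup.center G := fun h => by
    have := (central_iff x).1 h
    rw [hx, mul_eq_one] at this
    exact H.hyp.one_n.ne' this.1
  obtain ⟨ℓ, d, -, hP, hdc⟩ := exists_primary x hxc
  haveI := Fact.mk hP.1
  have hdx : x ^ d ∈ C(x) := mem_iff.2 ((Commute.refl x).pow_left d)
  by_cases hn : ℓ ∣ n
  · refine hdc (central_of_small (fun u hu hu' => hL' ℓ u hu hn hu') ?_ hP hdx)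
    rw [hx, hyn, fact_nm H.n_ne H.m_ne (H.hyp.prime_not_m hP.1 hn)]
  · by_cases hm : ℓ ∣ m
    · refine hdc (central_of_small (fun u hu hu' => hL ℓ u hu hm hu') ?_ hP hdx)
      rw [hx, hzm, mul_comm n m, fact_nm H.m_ne H.n_ne hn]
    · exact hdc (mem_center_of_free (fun g hg => (hP.1.dvd_mul.1 (hg.trans (H.hyp.dvd_nm g))).elim hn hm) hP)

/-- The product of a non-commuting pair cannot have class size `n`. -/
theorem no_type {r s : ℕ} {y z : G} (hy : Prim r y) (hyn : cls y = n) (hz : Prim s z)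
    (hzm : cls z = m) (ht : cls (z * y) = n) : False := by
  haveI := Fact.mk hz.1
  have hrm : r ∣ m := H.onN r y hy hyn
  have hsn : s ∣ n := H.onM s z hz hzm
  have hrn : ¬ r ∣ n := H.hyp.swap.prime_not_m hy.1 hrm
  have hsm : ¬ s ∣ m := H.hyp.prime_not_m hz.1 hsn
  obtain ⟨M, hMn, hMd, hmu, horb⟩ := stab_data (a := z) (b := y)
    (by rw [hzm, hyn]; exact H.hyp.cop.symm) (by rw [ht, hyn])
  haveI := hMn
  rw [hyn] at hMd
  -- `y` is fixed point free on `M`
  have hfree : ∀ u ∈ M, Commute u y → u = 1 := by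
    intro u hu hc
    obtain ⟨i, hi⟩ := horb u hu
    have ho : orderOf (u * y) = orderOf y := by
      rw [hi]
      exact orderOf_injective (MulAut.conj i).toMonoidHom (MulAut.conj i).injective y
    have h1 : u ^ orderOf y = 1 := by
      have := pow_orderOf_eq_one (u * y)
      rwa [ho, hc.mul_pow, pow_orderOf_eq_one, mul_one] at this
    have h2 : u ^ Nat.card M = 1 := congrArg Subtype.val (pow_card_eq_one' (x := (⟨u, hu⟩ : M)))
    exact orderOf_eq_one_iff.1 (Nat.eq_one_of_dvd_coprimes
      ((hy.ne_dvd hrn).coprime_dvd_right hMd)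
      (orderOf_dvd_of_pow_eq_one h1) (orderOf_dvd_of_pow_eq_one h2))
  -- a fixed point in the coset of `z`
  have hw0 : z * y * z⁻¹ * y⁻¹ ∈ M := by
    have h1 := inv_mem (hMn.conj_mem _ (hmu y) z)
    convert h1 using 1
    group
  let f : M → M := fun u => ⟨(u : G)⁻¹ * y * (u : G) * y⁻¹, by
    have := mul_mem (inv_mem u.2) (hMn.conj_mem _ u.2 y)
    simpa [mul_assoc] using this⟩
  have hfinj : Function.Injective f := by
    intro u v huv
    have h1 : (u : G)⁻¹ * y * u * y⁻¹ = (v : G)⁻¹ * y * v * y⁻¹ := congrArg Subtype.val huv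
    rw [mul_left_inj] at h1
    have h2 : ((v : G) * (u : G)⁻¹) * y = y * ((v : G) * (u : G)⁻¹) := by
      calc ((v : G) * (u : G)⁻¹) * y = v * ((u : G)⁻¹ * y * u) * (u : G)⁻¹ := by group
        _ = v * ((v : G)⁻¹ * y * v) * (u : G)⁻¹ := by rw [h1]
        _ = _ := by group
    exact Subtype.ext (mul_inv_eq_one.1 (hfree _ (mul_mem v.2 (inv_mem u.2)) h2)).symm
  obtain ⟨⟨u, hu⟩, hfu⟩ := (Finite.injective_iff_surjective.1 hfinj) ⟨_, hw0⟩
  have hfu' : u⁻¹ * y * u * y⁻¹ = z * y * z⁻¹ * y⁻¹ := congrArg Subtype.val hfu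
  rw [mul_left_inj] at hfu'
  set c := u * z with hc
  have hcy : Commute c y := by
    show c * y = y * c
    calc c * y = u * (z * y * z⁻¹) * z := by rw [hc]; group
      _ = u * (u⁻¹ * y * u) * z := by rw [hfu']
      _ = y * c := by rw [hc]; group
  have hfix : C(y) ≤ C(c) := by
    intro g hg
    have hgy : Commute g y := mem_iff.1 hg
    have h1 : Commute (c⁻¹ * (g * c * g⁻¹)) y :=
      hcy.inv_left.mul_left ((hgy.mul_left hcy).mul_left hgy.inv_left)
    have h2 : c⁻¹ * (g * c * g⁻¹) ∈ M := by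
      have h3 : z⁻¹ * (u⁻¹ * (g * u * g⁻¹)) * (z⁻¹)⁻¹ ∈ M :=
        hMn.conj_mem _ (mul_mem (inv_mem hu) (hMn.conj_mem _ hu g)) z⁻¹
      convert mul_mem h3 (hmu g) using 1
      rw [hc]; group
    have h4 := hfree _ h2 h1
    refine mem_iff.2 ?_
    rw [inv_mul_eq_one, eq_mul_inv_iff_mul_eq] at h4
    exact h4.symm
  have hcc : c ∈ Subgroup.center G := by
    by_contra hcc
    obtain ⟨ℓ, d, hℓ, hP, hdc⟩ := exists_primary c hcc
    have hcd : cls (c ^ d) ∣ n := hyn ▸ cls_dvd (hfix.trans (centralizer_le_pow c d))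
    rcases H.hyp.of_dvd_n hcd with e | e
    · exact hdc ((central_iff _).2 e)
    have hℓm := H.onN ℓ _ hP e
    have h5 : c ^ (orderOf z * Nat.card M) = 1 := by
      have h6 : c ^ orderOf z ∈ M := by
        rw [← QuotientGroup.eq_one_iff, QuotientGroup.mk_pow, hc, QuotientGroup.mk_mul,
          (QuotientGroup.eq_one_iff u).2 hu, one_mul, ← QuotientGroup.mk_pow, pow_orderOf_eq_one,
          QuotientGroup.mk_one]
      rw [pow_mul]
      exact congrArg Subtype.val (pow_card_eq_one' (x := (⟨_, h6⟩ : M)))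
    obtain ⟨-, k, hk⟩ := hz
    rcases hP.1.dvd_mul.1 (hℓ.trans (orderOf_dvd_of_pow_eq_one h5)) with h7 | h7
    · rw [hk] at h7
      exact hsm ((Nat.prime_dvd_prime_iff_eq hP.1 (Fact.out)).1 (hP.1.dvd_of_dvd_pow h7) ▸ hℓm)
    · exact H.hyp.prime_not_m hP.1 (h7.trans hMd) hℓm
  -- `z` may be replaced by an element of `M`
  have hu0 : cls u⁻¹ = m := by
    have hcomm : ∀ g, Commute g c := fun g => Subgroup.mem_center_iff.1 hcc g
    have hzu : z = u⁻¹ * c := by rw [hc]; group
    refine Eq.trans ?_ hzm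
    show (Subgroup.centralizer _).index = (Subgroup.centralizer _).index
    congr 1
    ext g
    rw [mem_iff, mem_iff, hzu]
    refine ⟨fun h => h.mul_right (hcomm g), fun h => ?_⟩
    simpa using h.mul_right (hcomm g).inv_right
  have hpick : ∀ S : Sylow s G, ∃ v ∈ M, cls v = m ∧ ∀ w ∈ (S : Subgroup G), Commute w v := by
    intro S
    obtain ⟨g, hg⟩ := exists_conj_centralized (p := s) (x := u⁻¹) (by rw [hu0]; exact hsm) S
    exact ⟨_, hMn.conj_mem _ (inv_mem hu) g, (cls_conj g _).trans hu0, hg⟩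
  have hne : ∀ v : G, v ∈ M → cls v = m → ¬ Commute v y := fun v hv hvm hvc => by
    rw [hfree v hv hvc, (central_iff (1 : G)).1 (one_mem _)] at hvm
    exact H.hyp.one_m.ne hvm
  refine H.not_small hy hyn hz hzm fun x hx hxy => ?_
  by_contra hxc
  have hyx : Commute y x := (mem_iff.1 hxy).symm
  obtain ⟨S, hxS⟩ := exists_sylow_mem hx
  rcases H.hyp.mem x with e | e | e | e
  · exact hxc ((central_iff x).2 e)
  · exact hsm (H.onN s x hx e)
  · -- `x` has class size `m`
    obtain ⟨S1, hS1⟩ := exists_sylow_commute (p := s) (x := x) (by rw [e]; exact hsm)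
    obtain ⟨v, hvM, hvm, hv⟩ := hpick S1
    have hS1g : ∀ w ∈ (S1 : Subgroup G), Commute w (x * v) := fun w hw =>
      (hS1 w hw).mul_right (hv w hw)
    have hgd : ¬ s ∣ cls (x * v) := fun hd => S1.not_dvd_index (hd.trans
      (Subgroup.index_dvd_of_le (H := (S1 : Subgroup G)) (K := C(x * v)) fun w hw => mem_iff.2 (hS1g w hw)))
    have hgm : cls (x * v) ≤ m := by
      rcases H.hyp.of_not_dvd hsn hgd with e' | e' <;> rw [e']
      exact H.hyp.one_m.le
    have hBA : C(y) ⊓ C(x * v) ≤ C(y) ⊓ C(x) := by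
      rintro h ⟨hh1, hh2⟩
      refine ⟨hh1, ?_⟩
      have hhy : Commute h y := mem_iff.1 hh1
      have hhg : Commute h (x * v) := mem_iff.1 hh2
      have h1 : x⁻¹ * (h * x * h⁻¹) = v * (h * v * h⁻¹)⁻¹ := by
        calc x⁻¹ * (h * x * h⁻¹) = x⁻¹ * (h * (x * v) * h⁻¹) * (h * v * h⁻¹)⁻¹ := by group
          _ = x⁻¹ * (x * v) * (h * v * h⁻¹)⁻¹ := by rw [hhg.eq, mul_inv_cancel_right]
          _ = _ := by group
      have h2 : Commute (x⁻¹ * (h * x * h⁻¹)) y :=
        hyx.symm.inv_left.mul_left ((hhy.mul_left hyx.symm).mul_left hhy.inv_left)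
      have h3 : x⁻¹ * (h * x * h⁻¹) ∈ M := h1 ▸ mul_mem hvM (inv_mem (hMn.conj_mem _ hvM h))
      have h4 := hfree _ h3 h2
      rw [inv_mul_eq_one, eq_mul_inv_iff_mul_eq] at h4
      exact mem_iff.2 h4.symm
    have hi : (C(y) ⊓ C(x * v)).index ≤ (C(y) ⊓ C(x)).index := by
      rw [H.hyp.cls_n_m hyn e]
      refine Subgroup.index_inf_le.trans ?_
      show cls y * cls (x * v) ≤ n * m
      rw [hyn]
      exact Nat.mul_le_mul_left _ hgm
    have hyg : y ∈ C(y) ⊓ C(x * v) := by
      rw [eq_of_index_le hBA hi]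
      exact ⟨FGB.mem_centralizer_singleton_self y, mem_iff.2 hyx⟩
    have h5 : Commute y (x⁻¹ * (x * v)) := hyx.inv_right.mul_right (mem_iff.1 hyg.2)
    rw [inv_mul_cancel_left] at h5
    exact hne v hvM hvm h5.symm
  · -- `x` has class size `n * m`
    have hco : (orderOf y).Coprime (orderOf x) := hy.coprime hx (fun h => hsm (h ▸ hrm))
    obtain ⟨v, hvM, hvm, hv⟩ := hpick S
    have heq : C(y * x) = C(x) := by
      refine eq_of_index_le (centralizer_mul hyx hco ▸ inf_le_right) ?_
      show cls (y * x) ≤ cls x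
      rw [e]
      exact Nat.le_of_dvd (Nat.mul_pos (Nat.pos_of_ne_zero H.n_ne) (Nat.pos_of_ne_zero H.m_ne))
        (H.hyp.dvd_nm _)
    have hle : C(x) ≤ C(y) := heq ▸ centralizer_mul hyx hco ▸ inf_le_left
    exact hne v hvM hvm (mem_iff.1 (hle (mem_iff.2 (hv x hxS).symm)))

/-- Elements of the two kinds commute. -/
theorem commute {r s : ℕ} {y z : G} (hy : Prim r y) (hyn : cls y = n) (hz : Prim s z)
    (hzm : cls z = m) : Commute y z := by
  have hA := H.hyp.cls_n_m hyn hzm
  have hle : C(y) ⊓ C(z) ≤ C(y * z) := fun g hg =>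
    mem_iff.2 ((mem_iff.1 hg.1).mul_right (mem_iff.1 hg.2))
  have hconj : cls (z * y) = cls (y * z) := by
    conv_rhs => rw [← cls_conj y⁻¹ (y * z)]
    congr 1
    group
  have key : y * z ∈ C(y) → Commute y z := fun h => by
    have h1 : Commute y (y⁻¹ * (y * z)) :=
      (Commute.refl y).inv_right.mul_right (mem_iff.1 h).symm
    rwa [inv_mul_cancel_left] at h1
  rcases H.hyp.mem (y * z) with e | e | e | e
  · refine key (mem_iff.2 ?_)
    exact (Subgroup.mem_center_iff.1 ((central_iff _).2 e) y).symm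
  · exact (H.no_type hy hyn hz hzm (hconj.trans e)).elim
  · exact (H.swap.no_type hz hzm hy hyn e).elim
  · refine key ?_
    have h2 : C(y) ⊓ C(z) = C(y * z) := by
      refine eq_of_index_le hle ?_
      rw [hA]
      exact e.ge
    exact (h2.ge (FGB.mem_centralizer_singleton_self _)).1

/-- An element with class size dividing `n` commutes with the elements of the second kind. -/
theorem commute_of_dvd {s : ℕ} {z : G} (hz : Prim s z) (hzm : cls z = m) :
    ∀ x : G, cls x ∣ n → Commute x z := by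
  intro x
  induction ho : orderOf x using Nat.strong_induction_on generalizing x with
  | _ o ih =>
    subst ho
    intro hx
    by_cases h1 : orderOf x = 1
    · rw [orderOf_eq_one_iff.1 h1]; exact Commute.one_left z
    obtain ⟨ℓ, -, -, a, b, i, j, ha, hb, hab, hlt, -, hP⟩ := exists_step x h1
    have hca : cls a ∣ n := (ha ▸ cls_dvd (centralizer_le_pow x i)).trans hx
    have hcb : cls b ∣ n := (hb ▸ cls_dvd (centralizer_le_pow x j)).trans hx
    have hbz : Commute b z := by
      rcases H.hyp.of_dvd_n hcb with e | e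
      · exact (Subgroup.mem_center_iff.1 ((central_iff b).2 e) z).symm
      · exact H.commute hP e hz hzm
    rw [hab]
    exact (ih _ hlt a rfl hca).mul_left hbz

/-- The remaining case does not occur. -/
theorem false : False := by
  obtain ⟨r, a, hr, ha⟩ := H.hyp.exists_prim
  obtain ⟨s, b, hs, hb⟩ := H.hyp.swap.exists_prim
  haveI := Fact.mk hs.1
  have hrm : r ∣ m := H.onN r a hr ha
  have hsn : s ∣ n := H.onM s b hs hb
  have hrn : ¬ r ∣ n := H.hyp.swap.prime_not_m hr.1 hrm
  have hsm : ¬ s ∣ m := H.hyp.prime_not_m hs.1 hsn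
  have hbC : b ∈ C(a) := mem_iff.2 (H.commute hr ha hs hb).symm
  -- large `s`-subgroups of `C(a)` centralise a conjugate of `b`
  have hin : ∀ U : Subgroup G, U ≤ C(a) →
      (Nat.card U).factorization s = (Nat.card C(a)).factorization s →
      ∃ c ∈ C(a), c * b * c⁻¹ ∈ U := by
    intro U hU hcard
    obtain ⟨T⟩ : Nonempty (Sylow s U) := inferInstance
    set T' := ((T : Subgroup U).map U.subtype).subgroupOf C(a) with hT'
    have hTle : (T : Subgroup U).map U.subtype ≤ C(a) := (Subgroup.map_subtype_le _).trans hU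
    have hcT : Nat.card T' = s ^ (Nat.card C(a)).factorization s := by
      rw [hT', Nat.card_congr (Subgroup.subgroupOfEquivOfLe hTle).toEquiv,
        Subgroup.card_map_of_injective U.subtype_injective, ← hcard]
      exact T.card_eq_multiplicity
    let S : Sylow s C(a) := Sylow.ofCard T' hcT
    have hrel : (Subgroup.centralizer ({⟨b, hbC⟩} : Set C(a))).index = m := by
      rw [index_centralizer_sub]; exact H.hyp.rel_eq_m ha hb
    obtain ⟨Q, hQ⟩ := exists_sylow_commute (G := C(a)) (p := s) (x := ⟨b, hbC⟩)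
      (by show ¬ s ∣ Subgroup.index _; rw [hrel]; exact hsm)
    obtain ⟨-, k, hk⟩ := hs
    have hbQ := S4139.mem_of_centralized Q (y := (⟨b, hbC⟩ : C(a)))
      ⟨k, Subtype.ext (by rw [SubgroupClass.coe_pow]; exact hk ▸ pow_orderOf_eq_one b)⟩ hQ
    obtain ⟨c, hc⟩ := MulAction.exists_smul_eq C(a) Q S
    refine ⟨c, c.2, ?_⟩
    have h1 : c * ⟨b, hbC⟩ * c⁻¹ ∈ (S : Subgroup C(a)) := by
      rw [← hc]
      exact ⟨_, hbQ, rfl⟩
    have h2 : ((c * ⟨b, hbC⟩ * c⁻¹ : C(a)) : G) ∈ (T : Subgroup U).map U.subtype := h1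
    exact Subgroup.map_subtype_le _ h2
  have hcover : ∀ x ∈ C(a), ∃ c ∈ C(a), Commute x (c * b * c⁻¹) := by
    intro x hx
    obtain ⟨y, w, i, j, hy, hw, hxyw, hyn, e, hwn⟩ := exists_split x n
    have hyC : y ∈ C(a) := hy ▸ pow_mem hx i
    have hwC : w ∈ C(a) := hw ▸ pow_mem hx j
    have hyw : Commute y w := hy ▸ hw ▸ Commute.pow_pow_self x i j
    have hco : (orderOf y).Coprime (orderOf w) := (hyn.pow_right e).coprime_dvd_right hwn
    have hconjP : ∀ c : G, Prim s (c * b * c⁻¹) ∧ cls (c * b * c⁻¹) = m :=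
      fun c => ⟨hs.conj c, (cls_conj c b).trans hb⟩
    have hcase : cls y ∣ n ∨ cls y = n * m := by
      rcases H.hyp.mem y with e' | e' | e' | e'
      · exact Or.inl (e' ▸ one_dvd n)
      · exact Or.inl (e' ▸ dvd_rfl)
      · exfalso
        obtain ⟨ℓ, d, hℓ, hP, hdc⟩ := exists_primary y (fun h => H.hyp.one_m.ne'
          (e'.symm.trans ((central_iff y).1 h)))
        rcases H.hyp.swap.of_dvd_n (e' ▸ cls_dvd (centralizer_le_pow y d)) with e'' | e''
        · exact hdc ((central_iff _).2 e'')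
        · exact hP.1.ne_one (Nat.eq_one_of_dvd_coprimes hyn hℓ (H.onM ℓ _ hP e''))
      · exact Or.inr e'
    rcases hcase with hy' | hy'
    · have hwa : (orderOf a).Coprime (orderOf w) :=
        ((hr.ne_dvd hrn).pow_right e).coprime_dvd_right hwn
      have hfac : (Nat.card (C(a) ⊓ C(w) : Subgroup G)).factorization s = (Nat.card C(a)).factorization s := by
        have h1 : C(w).relIndex C(a) * Nat.card (C(a) ⊓ C(w) : Subgroup G) = Nat.card C(a) := by
          rw [← Subgroup.inf_relIndex_left, mul_comm,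
            ← Nat.card_congr (Subgroup.subgroupOfEquivOfLe (inf_le_left : C(a) ⊓ C(w) ≤ C(a))).toEquiv]
          exact Subgroup.card_mul_index _
        rw [← h1, mul_comm, fact_nm Nat.card_pos.ne']
        · intro h0
          rw [h0, zero_mul] at h1
          exact Nat.card_pos.ne' h1.symm
        · rcases H.hyp.rel_cases ha (mem_iff.1 hwC).symm hwa with e' | e' <;> rw [e']
          · exact hs.1.not_dvd_one
          · exact hsm
      obtain ⟨c, hc, hcU⟩ := hin _ inf_le_left hfac
      refine ⟨c, hc, ?_⟩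
      rw [hxyw]
      exact (H.commute_of_dvd (hconjP c).1 (hconjP c).2 y hy').mul_left (mem_iff.1 hcU.2).symm
    · -- the centraliser of `x` is that of `y`
      have hyw' : C(y) ≤ C(w) := by
        have h1 : C(y * w) = C(y) := by
          refine eq_of_index_le (centralizer_mul hyw hco ▸ inf_le_left) ?_
          show cls (y * w) ≤ cls y
          rw [hy']
          exact Nat.le_of_dvd (Nat.mul_pos (Nat.pos_of_ne_zero H.n_ne) (Nat.pos_of_ne_zero H.m_ne))
            (H.hyp.dvd_nm _)
        exact h1 ▸ centralizer_mul hyw hco ▸ inf_le_right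
      obtain ⟨T⟩ : Nonempty (Sylow s C(y)) := inferInstance
      have hTle : (T : Subgroup C(y)).map (Subgroup.subtype _) ≤ C(a) := by
        rintro _ ⟨u, hu, rfl⟩
        obtain ⟨k, hk⟩ := IsPGroup.iff_orderOf.1 T.isPGroup' ⟨u, hu⟩
        rw [Subgroup.orderOf_mk, ← Subgroup.orderOf_coe] at hk
        have hco' : (orderOf y).Coprime (orderOf (u : G)) := by
          rw [hk]; exact (hyn.coprime_dvd_right hsn).pow_right k
        have hyu : Commute y (u : G) := (mem_iff.1 u.2).symm
        have h1 : C(y * (u : G)) = C(y) := by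
          refine eq_of_index_le (centralizer_mul hyu hco' ▸ inf_le_left) ?_
          show cls (y * (u : G)) ≤ cls y
          rw [hy']
          exact Nat.le_of_dvd (Nat.mul_pos (Nat.pos_of_ne_zero H.n_ne) (Nat.pos_of_ne_zero H.m_ne))
            (H.hyp.dvd_nm _)
        have h2 : a ∈ C((u : G)) :=
          ((h1.symm.trans (centralizer_mul hyu hco')).le (mem_iff.2 (mem_iff.1 hyC).symm)).2
        exact mem_iff.2 (mem_iff.1 h2).symm
      obtain ⟨c, hc, hcU⟩ := hin _ hTle (by
        rw [Subgroup.card_map_of_injective (Subgroup.subtype_injective _), T.card_eq_multiplicity,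
          hs.1.factorization_pow, Finsupp.single_eq_same]
        have e1 := fact_index (A := C(y)) s
        have e2 := fact_index (A := C(a)) s
        change _ + (cls y).factorization s = _ at e1
        change _ + (cls a).factorization s = _ at e2
        rw [hy', fact_nm H.n_ne H.m_ne hsm] at e1
        rw [ha] at e2
        omega)
      refine ⟨c, hc, ?_⟩
      have hcy := Subgroup.map_subtype_le _ hcU
      rw [hxyw]
      exact (mem_iff.1 hcy).symm.mul_left (mem_iff.1 (hyw' hcy)).symm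
  have htop : (C(b)).subgroupOf C(a) = ⊤ := by
    refine FGB.eq_top_of_conj_cover fun x => ?_
    obtain ⟨c, hc, hcc⟩ := hcover x x.2
    refine ⟨⟨c⁻¹, inv_mem hc⟩, mem_iff.2 ?_⟩
    have h := hcc.map (MulAut.conj c⁻¹).toMonoidHom
    simpa [mul_assoc] using h
  have hle : C(a) ≤ C(b) := Subgroup.subgroupOf_eq_top.1 htop
  have := cls_dvd hle
  rw [ha, hb] at this
  exact H.hyp.swap.not_n_dvd_m this

end Mixed

end Cfsg.Agent.CoprimeFour
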